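import Cfsg.Agent.Lib.RankTwoSystems.RankTwoMain
import Cfsg.Agent.Lib.Fusion.PowerIndex
import Cfsg.Agent.Lib.Fusion.Inner

/-!
Simple saturated systems: no central involution, and no subgroup of index two containing all
representatives which move.
-/

set_option autoImplicit false
set_option linter.style.haveILetI false

namespace CfsgLib.RankTwoSystems

open Cfsg Cfsg.FusionSystem CfsgLib.Fusion
open CfsgLib.SupersolubleExc (pullSystem isRealizedBy_pullSystem)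

universe u

variable {Ω : Type u} [Group Ω] {S : Subgroup Ω} [Finite S] {F : FusionSystem S}

theorem aut_mono {E : FusionSystem S} (hle : F ≤ E) (P : Subgroup S) : aut F P ≤ aut E P :=
  fun α hα => by
    obtain ⟨f, ⟨φ, hφ, hv⟩, hf⟩ := (mem_aut_iff α).1 hα
    exact (mem_aut_iff α).2 ⟨f, ⟨φ, hle _ hφ, hv⟩, hf⟩

/-- An abelian normal subgroup of a simple system is trivial, or is everything and only inner maps
occur. -/
theorem eq_bot_or_inner (hS : IsPGroup 2 S) (hs : F.IsSimple 2) {Q : Subgroup Ω}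
    (hQ : F.StronglyClosed Q) (hab : ∀ x ∈ Q, ∀ y ∈ Q, x * y = y * x) :
    Q = ⊥ ∨ Q = S ∧ ∀ P, (innerFusionSystem Q).Hom P = F.Hom P := by
  haveI : Fact (Nat.Prime 2) := ⟨Nat.prime_two⟩
  exact hs.2.2 Q _ (isNormalIn_inner_of_abelian hS hs.1 (isNormal_of_abelian hS hs.1 hQ hab) hab)

theorem exists_moved_of_simple (hS : IsPGroup 2 S) (hs : F.IsSimple 2) (h1 : ¬ PRankLE 2 1 S)
    {z : S} (hz : z * z = 1) (hz1 : z ≠ 1) :
    ∃ f, IsMap F (Subgroup.zpowers (z : Ω)) f ∧ f z ≠ z := by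
  by_contra hcon
  push Not at hcon
  have hzΩ : (z : Ω) * z = 1 := congrArg Subtype.val hz
  have hsc : F.StronglyClosed (Subgroup.zpowers (z : Ω)) :=
    stronglyClosed_iff.2 ⟨Subgroup.zpowers_le.mpr z.2, fun P f hf x hx hxz => by
      rcases CfsgLib.SylowRankTwo.pair_eq hzΩ hxz with rfl | rfl
      · rw [hf.map_one]; exact one_mem _
      · rw [hcon f (hf.mono (Subgroup.zpowers_le.mpr hx))]; exact hxz⟩
  rcases eq_bot_or_inner hS hs hsc (fun x hx y hy => by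
    obtain ⟨i, rfl⟩ := hx
    obtain ⟨j, rfl⟩ := hy
    exact zpow_mul_comm _ i j) with h | ⟨h, -⟩
  · exact hz1 (Subtype.ext (Subgroup.zpowers_eq_bot.1 h))
  · refine h1 fun A _ _ => ?_
    refine (Subgroup.card_le_card_group A).trans ?_
    show Nat.card S ≤ 2 ^ 1
    rw [← h, Nat.card_zpowers, pow_one]
    exact Nat.le_of_dvd two_pos (orderOf_dvd_of_pow_eq_one (by rw [pow_two, hzΩ]))

theorem not_central_invols (hS : IsPGroup 2 S) (hs : F.IsSimple 2) (h1 : ¬ PRankLE 2 1 S) :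
    ¬ ∀ x : S, x * x = 1 → ∀ g, g * x = x * g := by
  intro hall
  set Q := (invols hall).map S.subtype with hQd
  have hmem : ∀ x : S, (x : Ω) ∈ Q ↔ x * x = 1 := fun x =>
    ⟨fun ⟨y, hy, e⟩ => by rw [← Subtype.ext e]; exact hy, fun h => ⟨x, h, rfl⟩⟩
  have hQS : Q ≤ S := Subgroup.map_subtype_le _
  have hsc : F.StronglyClosed Q := stronglyClosed_iff.2 ⟨hQS, fun P f hf x hx hxQ => by
    have hxx : x * x = 1 := by
      have := congrArg Subtype.val ((hmem ⟨x, hQS hxQ⟩).1 hxQ)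
      exact this
    exact (hmem ⟨f x, hf.mem hx⟩).2 (Subtype.ext (by
      show f x * f x = 1
      rw [← hf.map_mul hx hx, hxx, hf.map_one]))⟩
  have hab : ∀ x ∈ Q, ∀ y ∈ Q, x * y = y * x := fun x hx y hy => congrArg Subtype.val
    (hall ⟨y, hQS hy⟩ ((hmem ⟨y, hQS hy⟩).1 hy) ⟨x, hQS hx⟩)
  haveI : Fact (Nat.Prime 2) := ⟨Nat.prime_two⟩
  haveI : Nontrivial S := (Subgroup.nontrivial_iff_ne_bot S).2 hs.2.1
  obtain ⟨i, hi0, hi⟩ := hS.nontrivial_iff_card.mp inferInstance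
  obtain ⟨z, hzord⟩ := exists_prime_orderOf_dvd_card' (G := S) 2 (hi ▸ dvd_pow_self 2 hi0.ne')
  have hz : z * z = 1 := by rw [← pow_two, ← hzord]; exact pow_orderOf_eq_one z
  have hz1 : z ≠ 1 := fun e => by rw [e] at hzord; simp at hzord
  rcases eq_bot_or_inner hS hs hsc hab with h | ⟨h, heq⟩
  · exact hz1 (Subtype.ext (Subgroup.mem_bot.1 (h ▸ (hmem z).2 hz)))
  · obtain ⟨f, ⟨φ, hφ, hv⟩, hfz⟩ := exists_moved_of_simple hS hs h1 hz hz1
    rw [← heq] at hφ
    obtain ⟨-, g, hg, hgv⟩ := hφ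
    refine hfz ?_
    have e := (hv ⟨z, Subgroup.mem_zpowers _⟩).symm.trans (hgv ⟨z, Subgroup.mem_zpowers _⟩)
    rw [e]
    show g * (z : Ω) * g⁻¹ = z
    rw [hab g hg z (h.symm ▸ z.2), mul_inv_cancel_right]

/-- A subgroup of index two containing the moving representatives contradicts simplicity. -/
theorem false_of_index_two (hS : IsPGroup 2 S) (hs : F.IsSimple 2) (hr : F.IsRealizable 2)
    (hA : IsPGroup 2 (MulAut S)) {P0 P1 : Subgroup S} (hR : Reps P0 P1) {M : Subgroup S}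
    (hM : M.index = 2) (hM1 : M ≠ ⊥) (h0 : Moving F P0 → P0 ≤ M) (h1 : Moving F P1 → P1 ≤ M) :
    False := by
  haveI : Fact (Nat.Prime 2) := ⟨Nat.prime_two⟩
  haveI hMn : M.Normal := Subgroup.normal_of_index_eq_two hM
  obtain ⟨G, _, _, ι, ⟨hι, hreal⟩, -⟩ := hr
  let κ : S →* G × (S ⧸ M) := ι.prod (QuotientGroup.mk' M)
  have hκ : Function.Injective κ := fun a b e => hι (congrArg Prod.fst e)
  have hle : F ≤ pullSystem ι hι := fun P φ hφ =>
    ⟨(F.le_of_mem hφ).1, (F.le_of_mem hφ).2, (hreal P (F.le_of_mem hφ).1 φ (F.le_of_mem hφ).2).1 hφ⟩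
  have hkey : ∀ P : Subgroup S, P ≤ M → OddLe F (pullSystem κ hκ) P := by
    intro P hP β hβ _
    obtain ⟨g, hg⟩ := (mem_aut_pull_iff (hι := hι) β).1 (aut_mono hle P hβ)
    refine (mem_aut_pull_iff β).2 ⟨(g, 1), fun x => Prod.ext (hg x) ?_⟩
    show (QuotientGroup.mk ((β x : P) : S) : S ⧸ M) = 1 * QuotientGroup.mk (x : S) * 1⁻¹
    rw [(QuotientGroup.eq_one_iff _).2 (hP (β x).2), (QuotientGroup.eq_one_iff _).2 (hP x.2)]
    group
  have hFE : F ≤ pullSystem κ hκ :=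
    le_of_reps hS hs.1 hA hR (fun h => hkey _ (h0 h)) fun h => hkey _ (h1 h)
  set T := M.map S.subtype
  have hTS : T ≤ S := Subgroup.map_subtype_le _
  have hTsub : T.subgroupOf S = M := Subgroup.comap_map_eq_self_of_injective S.subtype_injective M
  have hhyp : F.hyperfocalSubgroup 2 ≤ T := by
    refine (Subgroup.closure_le _).2 ?_
    rintro y ⟨P, α, x, hP, -, rfl⟩
    obtain ⟨φ, hφ, hv⟩ := ((mem_autGroup_iff hP _).1 α.2).isMap
    obtain ⟨hP', hmem, g, hg⟩ := hFE P hφ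
    have e : φ x = (((α : MulAut P) x : P) : Ω) := (hv x).trans (autFun_coe _ x)
    set a : S := ⟨x, hP x.2⟩
    set b : S := ⟨(((α : MulAut P) x : P) : Ω), hP (SetLike.coe_mem _)⟩
    have hb : (QuotientGroup.mk b : S ⧸ M) = g.2 * QuotientGroup.mk a * g.2⁻¹ := by
      rw [show b = ⟨φ x, hmem x⟩ from Subtype.ext e.symm]
      exact congrArg Prod.snd (hg x)
    have hiff : a ∈ M ↔ b ∈ M := by
      rw [← QuotientGroup.eq_one_iff a, ← QuotientGroup.eq_one_iff b, hb, conj_eq_one_iff]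
    refine ⟨a⁻¹ * b, ?_, rfl⟩
    show a⁻¹ * b ∈ M
    rw [Subgroup.mul_mem_iff_of_index_two hM, Subgroup.inv_mem_iff]
    exact hiff
  obtain ⟨E, hE, hEF, hc, -⟩ := PowerIndex.exists_subsystem T _ S rfl hS F hs.1 hTS hhyp
  have hN := PowerIndex.isNormalIn hS hs.1 hTS (hTsub.symm ▸ hMn) hhyp hE hEF hc
  rcases hs.2.2 T E hN with h | ⟨h, -⟩
  · exact hM1 ((Subgroup.map_eq_bot_iff_of_injective M S.subtype_injective).1 h)
  · rw [h, Subgroup.subgroupOf_self] at hTsub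
    rw [← hTsub, Subgroup.index_top] at hM
    omega

end CfsgLib.RankTwoSystems
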