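import Cfsg.Agent.Lib.RankTwoSystems.NotSimple

/-!
Simple saturated systems on 2-groups of 2-rank two are those of `PSL₂` and `PSL₃`.
-/

set_option autoImplicit false
set_option linter.style.haveILetI false
set_option linter.unusedSectionVars false

namespace CfsgLib.RankTwoSystems

open Cfsg Cfsg.FusionSystem CfsgLib.Fusion CfsgLib.SylowRankTwo
open CfsgLib.SupersolubleExc (pullSystem isRealizedBy_pullSystem)
open scoped MatrixGroups

universe u

theorem index_two_of {T : Type*} [Group T] {M : Subgroup T} {a : T} (ha : a ∉ M)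
    (h : ∀ b, b ∈ M ∨ b * a ∈ M) : M.index = 2 :=
  Subgroup.index_eq_two_iff.2 ⟨a, fun b => (h b).elim
    (fun hb => Or.inr ⟨hb, fun hba => ha (by
      have := M.mul_mem (M.inv_mem hb) hba
      rwa [inv_mul_cancel_left] at this)⟩)
    (fun hba => Or.inl ⟨hba, fun hb => ha (by
      have := M.mul_mem (M.inv_mem hb) hba
      rwa [inv_mul_cancel_left] at this)⟩)⟩

section Dihedral

variable {T : Type*} [Group T] {n : ℕ} {e f : ℤ} {x y : T}

theorem Rels.index_two (h : Rels n e f x y) [Finite T] (hcard : Nat.card T = 2 ^ (n + 1))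
    (hn : 3 ≤ n ∨ y * y = 1) : ∃ M : Subgroup T, M.index = 2 ∧ M ≠ ⊥ ∧ rep n x y ≤ M := by
  have hd : (2 : ℤ) ∣ 2 ^ (n - 1) := ⟨2 ^ (n - 2), h.four_pow⟩
  have hy : y ∈ h.sub 2 hd := ⟨0, Or.inr (by simp)⟩
  refine ⟨h.sub 2 hd, index_two_of (a := x) ?_ ?_, ?_, ?_⟩
  · rintro ⟨a, ha | ha⟩
    · nth_rw 1 [← zpow_one x] at ha
      rw [h.zpow_eq_iff, h.two_pow] at ha
      obtain ⟨c, hc⟩ := ha
      have h2 : (2 : ℤ) ∣ 1 := ⟨2 ^ (n - 1) * c + a, by linear_combination hc⟩
      norm_num at h2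
    · exact h.ne_zpow (2 * a) 1 (by rw [zpow_one]; exact ha.symm)
  · intro b
    have hidx : (Subgroup.zpowers x).index = 2 := by
      have := (Subgroup.zpowers x).card_mul_index
      rw [Nat.card_zpowers, h.order, hcard, pow_succ] at this
      exact Nat.eq_of_mul_eq_mul_left (by positivity) this
    have hpar : ∀ g : T, (g = 1 ∨ g = y) → ∀ i : ℤ,
        g * x ^ i ∈ h.sub 2 hd ∨ g * x ^ i * x ∈ h.sub 2 hd := by
      intro g hg i
      have hgm : g ∈ h.sub 2 hd := by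
        rcases hg with rfl | rfl
        exacts [one_mem _, hy]
      rcases Int.even_or_odd' i with ⟨t, rfl | rfl⟩
      · exact Or.inl (mul_mem hgm ⟨t, Or.inl rfl⟩)
      · refine Or.inr ?_
        rw [mul_assoc, ← zpow_add_one]
        exact mul_mem hgm ⟨t + 1, Or.inl (by ring_nf)⟩
    by_cases hb : b ∈ Subgroup.zpowers x
    · obtain ⟨i, rfl⟩ := hb
      simpa using hpar 1 (Or.inl rfl) i
    · have hm : y⁻¹ * b ∈ Subgroup.zpowers x := by
        rw [Subgroup.mul_mem_iff_of_index_two hidx, Subgroup.inv_mem_iff]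
        exact iff_of_false h.out hb
      obtain ⟨i, hi⟩ := hm
      have e1 : y * x ^ i = b := by rw [show x ^ i = y⁻¹ * b from hi, mul_inv_cancel_left]
      exact e1 ▸ hpar y (Or.inr rfl) i
  · intro e'
    rw [e', Subgroup.mem_bot] at hy
    exact h.out (hy ▸ one_mem _)
  · rw [rep]
    split_ifs with hsq
    · rw [Subgroup.closure_le]
      rintro g (rfl | rfl)
      · exact ⟨2 ^ (n - 2), Or.inl (by rw [h.four_pow])⟩
      · exact hy
    · rw [Subgroup.closure_le]
      rintro g (rfl | rfl)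
      · refine ⟨2 ^ (n - 3), Or.inl ?_⟩
        have := hn.resolve_right hsq
        rw [← pow_succ', show n - 3 + 1 = n - 2 by omega]
      · exact hy

end Dihedral

section Wreathed

variable {T : Type*} [Group T] {n : ℕ} {x y z : T}

theorem WRels.index_two_ess (h : WRels n x y z) [Finite T]
    (hcard : Nat.card T = 2 ^ (2 * n + 1)) :
    ∃ M : Subgroup T, M.index = 2 ∧ M ≠ ⊥ ∧ h.ess ≤ M := by
  let M : Subgroup T :=
    { carrier := {g | ∃ i j : ℤ, (2 : ℤ) ∣ i - j ∧ (g = el x y i j ∨ g = el x y i j * z)}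
      one_mem' := ⟨0, 0, by simp, Or.inl h.el_zero.symm⟩
      mul_mem' := by
        rintro _ _ ⟨i, j, hij, rfl | rfl⟩ ⟨k, l, hkl, rfl | rfl⟩
        · exact ⟨i + k, j + l, by omega, Or.inl (h.el_mul ..)⟩
        · exact ⟨i + k, j + l, by omega, Or.inr (by rw [← mul_assoc, h.el_mul])⟩
        · exact ⟨i + l, j + k, by omega, Or.inr (h.mul_el ..)⟩
        · exact ⟨i + l, j + k, by omega, Or.inl (h.mul_el_z ..)⟩
      inv_mem' := by
        rintro _ ⟨i, j, hij, rfl | rfl⟩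
        · exact ⟨-i, -j, by omega, Or.inl (h.el_inv ..)⟩
        · exact ⟨-j, -i, by omega, Or.inr (h.z_el_inv ..)⟩ }
  have hx : x = el x y 1 0 := by simp [el]
  have h2 : (2 : ℤ) ∣ 2 ^ (n - 1) := dvd_pow_self 2 (by have := h.two_le; omega)
  have h2' : (2 : ℤ) ∣ 2 ^ n := dvd_pow_self 2 (by have := h.two_le; omega)
  refine ⟨M, index_two_of (a := x) ?_ ?_, ?_, ?_⟩
  · rintro ⟨i, j, hij, hg | hg⟩ <;> nth_rw 1 [hx] at hg
    · obtain ⟨d1, d2⟩ := h.el_eq_iff.1 hg
      have := h2'.trans d1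
      have := h2'.trans d2
      omega
    · exact h.el_ne_mul_z _ _ _ _ hg
  · intro b
    rcases h.mem_or hcard b with ⟨i, j, rfl⟩ | ⟨i, j, rfl⟩
    · by_cases hp : (2 : ℤ) ∣ i - j
      · exact Or.inl ⟨i, j, hp, Or.inl rfl⟩
      · refine Or.inr ⟨i + 1, j + 0, by omega, Or.inl ?_⟩
        nth_rw 2 [hx]
        exact h.el_mul ..
    · by_cases hp : (2 : ℤ) ∣ i - j
      · exact Or.inl ⟨i, j, hp, Or.inr rfl⟩
      · refine Or.inr ⟨i + 0, j + 1, by omega, Or.inr ?_⟩
        nth_rw 2 [hx]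
        exact h.mul_el ..
  · intro e'
    have hz : el x y 0 0 * z ∈ M := ⟨0, 0, by simp, Or.inr rfl⟩
    rw [e', Subgroup.mem_bot, h.el_zero, one_mul] at hz
    exact h.out (hz ▸ one_mem _)
  · rintro g ⟨i, j, hij, hg⟩
    exact ⟨i, j, h2.trans hij, hg⟩

theorem WRels.index_base (h : WRels n x y z) [Finite T] (hcard : Nat.card T = 2 ^ (2 * n + 1)) :
    h.base.index = 2 ∧ h.base ≠ ⊥ := by
  have hz : z ∉ h.base := by rw [← h.closure_base]; exact h.out
  refine ⟨index_two_of (a := z) hz fun b => ?_, fun e' => ?_⟩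
  · rcases h.mem_or hcard b with ⟨i, j, rfl⟩ | ⟨i, j, rfl⟩
    · exact Or.inl ⟨i, j, rfl⟩
    · exact Or.inr ⟨i, j, by rw [mul_assoc, h.z_sq, mul_one]⟩
  · have hx : x ∈ h.base := ⟨1, 0, by simp [el]⟩
    rw [e', Subgroup.mem_bot] at hx
    have := h.order
    rw [hx, orderOf_one] at this
    have := Nat.one_lt_two_pow (n := n) (by have := h.two_le; omega)
    omega

end Wreathed

variable {Ω : Type u} [Group Ω] {S : Subgroup Ω} [Finite S] {F : FusionSystem S}

theorem isRealizedBy_of_eq {G : Type*} [Group G] (ι : S →* G) (hι : Function.Injective ι)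
    (h1 : F ≤ pullSystem ι hι) (h2 : pullSystem ι hι ≤ F) : F.IsRealizedBy ι :=
  ⟨hι, fun P hP φ hφ => ⟨fun h => (h1 P h).2.2, fun h => h2 P ⟨hP, hφ, h⟩⟩⟩

theorem exists_sylow_range (hS : IsPGroup 2 S) {G : Type*} [Group G] [Finite G] (ι : S →* G)
    (hι : Function.Injective ι) {m : ℕ} (hm : Odd m) (hG : Nat.card G = Nat.card S * m) :
    ∃ T : Sylow 2 G, (T : Subgroup G) = ι.range := by
  haveI : Fact (Nat.Prime 2) := ⟨Nat.prime_two⟩
  refine ⟨(hS.of_surjective ι.rangeRestrict ι.rangeRestrict_surjective).toSylow ?_, rfl⟩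
  have h := ι.range.card_mul_index
  rw [← Nat.card_congr (MonoidHom.ofInjective hι).toEquiv, hG] at h
  rw [Nat.eq_of_mul_eq_mul_left Nat.card_pos h]
  exact hm.not_two_dvd_nat

theorem realized_psl_three (hS : IsPGroup 2 S) {p : ℕ} [Fact p.Prime] (ι : S →* SL(3, ZMod p))
    (hι : Function.Injective ι) {m : ℕ} (hm : Odd m)
    (hG : Nat.card SL(3, ZMod p) = Nat.card S * m) (hF : F.IsRealizedBy ι) :
    ∃ ι' : S →* Matrix.ProjectiveSpecialLinearGroup (Fin 3) (ZMod p), F.IsRealizedBy ι' ∧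
      ∃ T : Sylow 2 (Matrix.ProjectiveSpecialLinearGroup (Fin 3) (ZMod p)),
        (T : Subgroup (Matrix.ProjectiveSpecialLinearGroup (Fin 3) (ZMod p))) = ι'.range := by
  set N := Subgroup.center SL(3, ZMod p) with hN
  let π : SL(3, ZMod p) →* Matrix.ProjectiveSpecialLinearGroup (Fin 3) (ZMod p) := QuotientGroup.mk' N
  have hN3 : Nat.card N ∣ 3 := by
    rw [hN, CfsgLib.Classical.card_center_SL, Fintype.card_fin]
    exact Nat.gcd_dvd_left _ _
  have htriv : ∀ c ∈ N, (∃ k : ℕ, c ^ 2 ^ k = 1) → c = 1 := fun c hc ⟨k, hk⟩ => by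
    rw [← orderOf_eq_one_iff, ← Nat.dvd_one]
    have h1 : orderOf c ∣ 3 := by
      rw [← Subgroup.orderOf_mk c hc]
      exact (orderOf_dvd_natCard (G := N) _).trans hN3
    have hco : Nat.gcd 3 (2 ^ k) = 1 := Nat.Coprime.pow_right k (by norm_num)
    exact hco ▸ Nat.dvd_gcd h1 (orderOf_dvd_of_pow_eq_one hk)
  have hι' : Function.Injective (π.comp ι) := by
    rw [injective_iff_map_eq_one]
    intro a ha
    obtain ⟨k, hk⟩ := hS a
    refine hι ?_
    rw [map_one]
    exact htriv _ ((QuotientGroup.eq_one_iff _).1 ha) ⟨k, by rw [← map_pow, hk, map_one]⟩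
  refine ⟨π.comp ι, ⟨hι', fun P hP φ hφ => ?_⟩, ?_⟩
  · rw [hF.2 P hP φ hφ]
    constructor
    · rintro ⟨g, hg⟩
      exact ⟨π g, fun x => by rw [MonoidHom.comp_apply, hg, map_mul, map_mul, map_inv]; rfl⟩
    · rintro ⟨g', hg'⟩
      obtain ⟨g, rfl⟩ := QuotientGroup.mk'_surjective N g'
      refine ⟨g, fun x => ?_⟩
      set a : SL(3, ZMod p) := g * ι ⟨x, hP x.2⟩ * g⁻¹ with had
      set b : SL(3, ZMod p) := ι ⟨φ x, hφ x⟩
      have he : π a = π b := by
        rw [had, map_mul, map_mul, map_inv]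
        exact (hg' x).symm
      have hc : a⁻¹ * b ∈ N := QuotientGroup.eq.1 he
      obtain ⟨k, hk⟩ := hS ⟨x, hP x.2⟩
      obtain ⟨l, hl⟩ := hS ⟨φ x, hφ x⟩
      have ha : a ^ 2 ^ k = 1 := by rw [had, conj_pow, ← map_pow, hk, map_one, mul_one, mul_inv_cancel]
      have hb : b ^ 2 ^ l = 1 := by rw [← map_pow, hl, map_one]
      have hcomm : Commute a⁻¹ b := by
        refine Commute.inv_left ?_
        have h1 : Commute a (a * (a⁻¹ * b)) :=
          (Commute.refl a).mul_right (Subgroup.mem_center_iff.1 hc a)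
        rwa [mul_inv_cancel_left] at h1
      have := htriv _ hc ⟨k + l, by
        rw [hcomm.mul_pow, inv_pow, pow_add, pow_mul, ha, one_pow, inv_one, one_mul, mul_comm (2 ^ k),
          pow_mul, hb, one_pow]⟩
      exact (inv_mul_eq_one.1 this).symm
  · obtain ⟨c, hc⟩ := hN3
    refine exists_sylow_range hS _ hι' (m := m / Nat.card N) ?_ ?_
    all_goals
      have h := Subgroup.card_eq_card_quotient_mul_card_subgroup N
      rw [hG] at h
      have hd : Nat.card N ∣ m := by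
        refine Nat.Coprime.dvd_of_dvd_mul_left ?_ ⟨_, h.trans (mul_comm _ _)⟩
        haveI : Fact (Nat.Prime 2) := ⟨Nat.prime_two⟩
        obtain ⟨i, hi⟩ := hS.exists_card_eq
        rw [hi]
        refine Nat.Coprime.coprime_dvd_left ⟨c, hc⟩ (Nat.Coprime.pow_right i (by norm_num))
      obtain ⟨d, hd⟩ := hd
      rw [hd, Nat.mul_div_cancel_left _ Nat.card_pos]
    · exact Nat.Odd.of_mul_right (hd ▸ hm)
    · rw [hd, mul_left_comm, mul_comm (Nat.card N)] at h
      exact Nat.eq_of_mul_eq_mul_right Nat.card_pos h.symm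

/-- The conclusion: realized in `PSL₂` or `PSL₃`. -/
def IsProjective (F : FusionSystem S) : Prop :=
  ∃ (K : Type) (_ : Field K) (_ : Fintype K) (q : ℕ), Fintype.card K = q ∧ Odd q ∧
    (((q % 8 = 1 ∨ q % 8 = 7) ∧ ∃ ι : ↥S →* Matrix.ProjectiveSpecialLinearGroup (Fin 2) K,
      F.IsRealizedBy ι ∧ ∃ T : Sylow 2 (Matrix.ProjectiveSpecialLinearGroup (Fin 2) K),
        (T : Subgroup (Matrix.ProjectiveSpecialLinearGroup (Fin 2) K)) = ι.range) ∨
    (∃ ι : ↥S →* Matrix.ProjectiveSpecialLinearGroup (Fin 3) K,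
      F.IsRealizedBy ι ∧ ∃ T : Sylow 2 (Matrix.ProjectiveSpecialLinearGroup (Fin 3) K),
        (T : Subgroup (Matrix.ProjectiveSpecialLinearGroup (Fin 3) K)) = ι.range))

theorem isProjective_maxClass (hS : IsPGroup 2 S) (hs : F.IsSimple 2) (hr : F.IsRealizable 2)
    {n : ℕ} {e f : ℤ} {x y : S} (h : Rels n e f x y) (hcard : Nat.card S = 2 ^ (n + 1))
    (hef : (e = 0 ∧ f = 0) ∨ (3 ≤ n ∧ e = 1 ∧ f = 0)) : IsProjective F := by
  have hR := h.reps' hcard
  have hn0 : 3 ≤ n ∨ y * y = 1 := by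
    rcases hef with ⟨-, rfl⟩ | ⟨hn, -⟩
    · exact Or.inr (by rw [h.sq, zero_mul, zpow_zero])
    · exact Or.inl hn
  have hn1 : 3 ≤ n ∨ y * x * (y * x) = 1 := by
    rcases hef with ⟨rfl, rfl⟩ | ⟨hn, -⟩
    · exact Or.inr (by rw [h.shift.sq, zero_add, zero_mul, zpow_zero])
    · exact Or.inl hn
  have hA : IsPGroup 2 (MulAut S) := h.isPGroup_mulAut hcard (by
    rcases hef with ⟨rfl, rfl⟩ | ⟨hn, -⟩
    · exact Or.inr fun i => by rw [h.sq_mul]; simp
    · exact Or.inl hn)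
  have m0 : Moving F (rep n x y) := by
    by_contra m0
    obtain ⟨M, hM, hM1, hle⟩ := h.shift.index_two hcard hn1
    exact false_of_index_two hS hs hr hA hR hM hM1 (fun h' => absurd h' m0) fun _ => hle
  have m1 : Moving F (rep n x (y * x)) := by
    by_contra m1
    obtain ⟨M, hM, hM1, hle⟩ := h.index_two hcard hn0
    exact false_of_index_two hS hs hr hA hR hM hM1 (fun _ => hle) fun h' => absurd h' m1
  have heq : ∀ {G : Type} [Group G] [Finite G] (ι : S →* G) (hι : Function.Injective ι) {m : ℕ},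
      Odd m → Nat.card G = Nat.card S * m → Moving (pullSystem ι hι) (rep n x y) →
      Moving (pullSystem ι hι) (rep n x (y * x)) → F.IsRealizedBy ι := by
    intro G _ _ ι hι m hm hG e0 e1
    exact isRealizedBy_of_eq ι hι
      (le_of_reps hS hs.1 hA hR (fun _ => h.oddLe hS hn0 e0) fun _ => h.shift.oddLe hS hn1 e1)
      (le_of_reps hS (isSaturated_pull hS ι hι hm hG) hA hR (fun _ => h.oddLe hS hn0 m0)
        fun _ => h.shift.oddLe hS hn1 m1)
  rcases hef with ⟨rfl, rfl⟩ | ⟨hn, rfl, rfl⟩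
  · obtain ⟨p, _, hp, ι, hι, m, hm, hG, e0, e1⟩ := dihedral_both_psl h h.two_le hcard
    exact ⟨ZMod p, inferInstance, inferInstance, p, ZMod.card p, Nat.odd_iff.2 (by omega),
      Or.inl ⟨Or.inl hp, ι, heq ι hι hm hG e0 e1, exists_sylow_range hS ι hι hm hG⟩⟩
  · obtain ⟨p, _, hp, ι, hι, m, hm, hG, e0, e1⟩ := sd_both_sl h hn hcard
    exact ⟨ZMod p, inferInstance, inferInstance, p, ZMod.card p, hp,
      Or.inr (realized_psl_three hS ι hι hm hG (heq ι hι hm hG e0 e1))⟩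

theorem isProjective_wreath (hS : IsPGroup 2 S) (hs : F.IsSimple 2) (hr : F.IsRealizable 2)
    {n : ℕ} {x y z : S} (h : WRels n x y z) (hcard : Nat.card S = 2 ^ (2 * n + 1)) :
    IsProjective F := by
  have hR : ∀ {x y : S} (h : WRels n x y z), Reps h.ess h.base := fun h P hP hC ⟨α, ho, h1⟩ =>
    h.reps hS hcard P hP hC α ho h1
  have hb : Moving F h.base := by
    by_contra hb
    obtain ⟨M, hM, hM1, hle⟩ := h.index_two_ess hcard
    exact false_of_index_two hS hs hr (h.isPGroup_mulAut hS hcard) (hR h) hM hM1 (fun _ => hle)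
      fun h' => absurd h' hb
  obtain ⟨x', y', h', -, α, hα, ho, hα1, hv⟩ := h.exists_cycle hS hs.1 hcard hb
  have hA' := h'.isPGroup_mulAut hS hcard
  have he : Moving F h'.ess := by
    by_contra he
    obtain ⟨hM, hM1⟩ := h'.index_base hcard
    exact false_of_index_two hS hs hr hA' (hR h') hM hM1 (fun h'' => absurd h'' he) fun _ => le_rfl
  obtain ⟨q, _, hq, ι, hι, m, hm, hG, e0, e1⟩ := wreath_both_sl h' hcard
  have hE := isSaturated_pull hS ι hι hm hG
  obtain ⟨Z, hZ, -⟩ := h'.exists_four_ess hS hcard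
  have hF : F.IsRealizedBy ι := isRealizedBy_of_eq ι hι
    (le_of_reps hS hs.1 hA' (hR h') (fun _ => oddLe_of_four hS hZ e0)
      fun _ => h'.oddLe_base hS hs.1 hcard hα ho hα1 (e1 α hv))
    (le_of_reps hS hE hA' (hR h') (fun _ => oddLe_of_four hS hZ he)
      fun _ => h'.oddLe_base hS hE hcard (e1 α hv) ho hα1 hα)
  exact ⟨ZMod q, inferInstance, inferInstance, q, ZMod.card q, hq,
    Or.inr (realized_psl_three hS ι hι hm hG hF)⟩

theorem simple_rank_two (hS : IsPGroup 2 S) (hs : F.IsSimple 2)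
    (hr : PRankAtLeast 2 2 S ∧ ¬ PRankAtLeast 2 3 S) :
    ((∃ m : ℕ, Nonempty (↥S ≃* DihedralGroup m)) ∨ Cfsg.IsQuasiDihedral ↥S ∨
      Cfsg.IsWreathed ↥S) ∧ IsProjective F := by
  haveI : Fact (Nat.Prime 2) := ⟨Nat.prime_two⟩
  have h2 : PRankLE 2 2 S := by
    intro A hAc hA2
    obtain ⟨i, hi⟩ := IsPGroup.iff_card.mp (hS.to_subgroup A)
    rw [hi]
    refine Nat.pow_le_pow_right two_pos ?_
    by_contra hlt
    exact hr.2 ⟨A, hAc, hA2, hi ▸ Nat.pow_le_pow_right two_pos (by omega)⟩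
  have h1 : ¬ PRankLE 2 1 S := by
    obtain ⟨A, hAc, hA2, hA⟩ := hr.1
    intro h
    have := h A hAc hA2
    norm_num at hA this
    omega
  have hfix : ∀ z : S, z * z = 1 → z ≠ 1 → (∀ g : S, g * z = z * g) →
      ∃ f, IsMap F (Subgroup.zpowers (z : Ω)) f ∧ f z ≠ z :=
    fun z hz hz1 _ => exists_moved_of_simple hS hs h1 hz hz1
  obtain ⟨e, he, g, hge⟩ : ∃ e : S, e * e = 1 ∧ ∃ g, g * e ≠ e * g := by
    by_contra h
    push Not at h
    exact not_central_invols hS hs h1 h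
  haveI : Nontrivial S := ⟨e, 1, fun h => hge (by rw [h, one_mul, mul_one])⟩
  haveI := hS.center_nontrivial
  obtain ⟨i, hi0, hi⟩ := (hS.to_subgroup (Subgroup.center S)).nontrivial_iff_card.mp inferInstance
  obtain ⟨⟨z, hzZ⟩, hzord⟩ := exists_prime_orderOf_dvd_card' (G := Subgroup.center S) 2
    (hi ▸ dvd_pow_self 2 hi0.ne')
  rw [← Subgroup.orderOf_coe] at hzord
  change orderOf z = 2 at hzord
  have hz : z * z = 1 := by rw [← pow_two, ← hzord]; exact pow_orderOf_eq_one z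
  have hz1 : z ≠ 1 := fun e => by rw [e] at hzord; simp at hzord
  have hzc : ∀ g, g * z = z * g := Subgroup.mem_center_iff.mp hzZ
  have he1 : e ≠ 1 := fun h => hge (by rw [h, one_mul, mul_one])
  have hez : e ≠ z := fun h => hge (h ▸ hzc g)
  have hzu : ∀ v : S, v * v = 1 → (∀ g, g * v = v * g) → v = 1 ∨ v = z := by
    intro v hv hvc
    by_contra hcon
    push Not at hcon
    obtain ⟨hv1, hvz⟩ := hcon
    rcases sq_one_of_two_rank h2 hz hv he hz1 hv1 hvz.symm (hzc v).symm (hzc e).symm (hvc e).symm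
      with h | h | h | h
    · exact he1 h
    · exact hez h
    · exact hge (h ▸ hvc g)
    · exact hge (by rw [h, ← mul_assoc, hvc, mul_assoc, hzc, ← mul_assoc])
  rcases shape_of_unique_central hS hs.1 h2 hfix hz hz1 hzc hzu he he1 hez with
    (⟨m, hm, ⟨φ⟩⟩ | h) | h
  · refine ⟨Or.inl ⟨m, ⟨φ⟩⟩, ?_⟩
    have hne : ∀ a b : DihedralGroup 2, a * b = b * a := by decide
    have hm4 : 4 ≤ m := by
      by_contra hlt
      rcases (show m = 2 ∨ m = 3 by omega) with rfl | rfl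
      · exact hge (φ.injective (by rw [map_mul, map_mul]; exact hne _ _))
      · obtain ⟨k, hk⟩ := hS.exists_card_eq
        rw [Nat.card_congr φ.toEquiv, DihedralGroup.nat_card] at hk
        have := Nat.Prime.dvd_of_dvd_pow Nat.prime_three (show 3 ∣ 2 ^ k from hk ▸ by norm_num)
        omega
    obtain ⟨n, x, y, hr', hcard⟩ := exists_rels_dihedral hS hm4 φ
    exact isProjective_maxClass hS hs (maxClass_realizable hS hs.1 hr' hcard (Or.inl ⟨rfl, rfl⟩))
      hr' hcard (Or.inl ⟨rfl, rfl⟩)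
  · refine ⟨Or.inr (Or.inl h), ?_⟩
    obtain ⟨n, x, y, hn, hr', hcard⟩ := exists_rels_quasiDihedral h
    exact isProjective_maxClass hS hs
      (maxClass_realizable hS hs.1 hr' hcard (Or.inr (Or.inr ⟨hn, rfl, rfl⟩)))
      hr' hcard (Or.inr ⟨hn, rfl, rfl⟩)
  · refine ⟨Or.inr (Or.inr h), ?_⟩
    obtain ⟨n, x, y, z, hw, hcard⟩ := exists_wrels h
    exact isProjective_wreath hS hs (wreath_realizable hS hs.1 hw hcard) hw hcard

end CfsgLib.RankTwoSystems
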